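/-
Counting by Gauss sums for quadratic characters on finite elementary groups.
-/
import Mathlib

set_option autoImplicit false
set_option linter.unusedSectionVars false

namespace H34.FiM4

/-- A non-degenerate quadratic sign function with its bicharacter. -/
structure Gauss (V : Type*) [AddCommGroup V] where
  chi : V → ℤ
  psi : V → V → ℤ
  chi_sign : ∀ x, chi x = 1 ∨ chi x = -1
  psi_sign : ∀ x w, psi x w = 1 ∨ psi x w = -1
  chi_add : ∀ x w, chi (x + w) = chi x * chi w * psi x w
  psi_add : ∀ x y w, psi (x + y) w = psi x w * psi y w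
  psi_add_right : ∀ x v w, psi x (v + w) = psi x v * psi x w
  nondeg : ∀ w, w ≠ 0 → ∃ x, psi x w ≠ 1

namespace Gauss

variable {V : Type*} [AddCommGroup V] [Fintype V] (G : Gauss V)

/-- The Gauss sum. -/
def total : ℤ := ∑ x, G.chi x

theorem psi_zero_left (w : V) : G.psi 0 w = 1 := by
  have h := G.psi_add 0 0 w
  rw [add_zero] at h
  rcases G.psi_sign 0 w with h' | h' <;> rw [h'] at h ⊢
  norm_num at h

omit [Fintype V] in
theorem psi_zero_right (x : V) : G.psi x 0 = 1 := by
  have h := G.psi_add_right x 0 0
  rw [add_zero] at h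
  rcases G.psi_sign x 0 with h' | h' <;> rw [h'] at h ⊢
  norm_num at h

theorem sum_psi [DecidableEq V] (w : V) :
    ∑ x, G.psi x w = if w = 0 then (Fintype.card V : ℤ) else 0 := by
  by_cases hw : w = 0
  · subst hw
    simp [G.psi_zero_right]
  · rw [if_neg hw]
    obtain ⟨y, hy⟩ := G.nondeg w hw
    have hy' : G.psi y w = -1 := (G.psi_sign y w).resolve_left hy
    have h : ∑ x, G.psi x w = - ∑ x, G.psi x w :=
      calc ∑ x, G.psi x w = ∑ x, G.psi (x + y) w :=
            (Equiv.sum_comp (Equiv.addRight y) fun x => G.psi x w).symm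
        _ = ∑ x, - G.psi x w := by
            refine Finset.sum_congr rfl fun x _ => ?_
            rw [G.psi_add, hy', mul_neg, mul_one]
        _ = - ∑ x, G.psi x w := Finset.sum_neg_distrib _
    omega

theorem chi_mul_self (x : V) : G.chi x * G.chi x = 1 := by
  rcases G.chi_sign x with h | h <;> rw [h] <;> rfl

/-- Completing the square. -/
theorem sum_chi_psi (w : V) : ∑ x, G.chi x * G.psi x w = G.chi w * G.total := by
  calc ∑ x, G.chi x * G.psi x w = ∑ x, G.chi w * G.chi (x + w) := by
        refine Finset.sum_congr rfl fun x _ => ?_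
        rw [G.chi_add]
        have := G.chi_mul_self w
        linear_combination -(G.chi x * G.psi x w) * this
    _ = G.chi w * ∑ x, G.chi (x + w) := (Finset.mul_sum _ _ _).symm
    _ = G.chi w * G.total := by
        rw [total]
        exact congrArg _ (Equiv.sum_comp (Equiv.addRight w) G.chi)

variable {U : Type*} [AddCommGroup U] [Fintype U]

omit [Fintype V] in
theorem sum_psi_hom (f : U →+ V) (x : V) [Decidable (∀ u, G.psi x (f u) = 1)] :
    ∑ u, G.psi x (f u) = if ∀ u, G.psi x (f u) = 1 then (Fintype.card U : ℤ) else 0 := by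
  split_ifs with h
  · simp [h]
  · push Not at h
    obtain ⟨v, hv⟩ := h
    have hv' : G.psi x (f v) = -1 := (G.psi_sign x (f v)).resolve_left hv
    have h : ∑ u, G.psi x (f u) = - ∑ u, G.psi x (f u) :=
      calc ∑ u, G.psi x (f u) = ∑ u, G.psi x (f (u + v)) :=
            (Equiv.sum_comp (Equiv.addRight v) fun u => G.psi x (f u)).symm
        _ = ∑ u, - G.psi x (f u) := by
            refine Finset.sum_congr rfl fun u _ => ?_
            rw [map_add, G.psi_add_right, hv', mul_neg, mul_one]
        _ = - ∑ u, G.psi x (f u) := Finset.sum_neg_distrib _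
    omega

/-- Vectors of given sign orthogonal to the image of an injective map. -/
theorem count (f : U →+ V) (hf : Function.Injective f) (e : ℤ) (he : e = 1 ∨ e = -1) :
    2 * (Fintype.card U : ℤ) * (Nat.card {x : V // G.chi x = e ∧ ∀ u, G.psi x (f u) = 1} : ℤ) =
      Fintype.card V + e * G.total * ∑ u, G.chi (f u) := by
  classical
  have hind : ∀ x : V, (1 + e * G.chi x) * ∑ u, G.psi x (f u) =
      if G.chi x = e ∧ ∀ u, G.psi x (f u) = 1 then 2 * (Fintype.card U : ℤ) else 0 := by
    intro x
    rw [G.sum_psi_hom]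
    by_cases h1 : G.chi x = e
    · rw [h1, show e * e = 1 by rcases he with rfl | rfl <;> rfl]
      by_cases h2 : ∀ u, G.psi x (f u) = 1
      · rw [if_pos h2, if_pos ⟨rfl, h2⟩]; ring
      · rw [if_neg h2, if_neg fun h => h2 h.2, mul_zero]
    · have : e * G.chi x = -1 := by
        rcases he with rfl | rfl <;> rcases G.chi_sign x with h | h <;> simp_all
      rw [this, if_neg (not_and_of_not_left _ h1)]
      ring
  have hL : ∑ x, (1 + e * G.chi x) * ∑ u, G.psi x (f u) =
      2 * (Fintype.card U : ℤ) * (Nat.card {x : V // G.chi x = e ∧ ∀ u, G.psi x (f u) = 1} : ℤ) := by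
    simp only [hind]
    rw [← Finset.sum_filter, Finset.sum_const, Nat.card_eq_fintype_card, Fintype.card_subtype,
      nsmul_eq_mul]
    ring
  have hR : ∑ x, (1 + e * G.chi x) * ∑ u, G.psi x (f u) =
      Fintype.card V + e * G.total * ∑ u, G.chi (f u) := by
    calc ∑ x, (1 + e * G.chi x) * ∑ u, G.psi x (f u)
        = ∑ u, ∑ x, (G.psi x (f u) + e * (G.chi x * G.psi x (f u))) := by
          simp only [Finset.mul_sum]
          rw [Finset.sum_comm]
          exact Finset.sum_congr rfl fun u _ => Finset.sum_congr rfl fun x _ => by ring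
      _ = ∑ u, ((if f u = 0 then (Fintype.card V : ℤ) else 0) + e * (G.chi (f u) * G.total)) := by
          refine Finset.sum_congr rfl fun u _ => ?_
          rw [Finset.sum_add_distrib, ← Finset.mul_sum, G.sum_psi, G.sum_chi_psi]
      _ = Fintype.card V + e * G.total * ∑ u, G.chi (f u) := by
          rw [Finset.sum_add_distrib, Finset.mul_sum]
          congr 1
          · rw [Finset.sum_eq_single 0 (fun u _ hu => if_neg fun h => hu (hf (h.trans (map_zero f).symm)))
              (fun h => absurd (Finset.mem_univ _) h), if_pos (map_zero f)]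
          · exact Finset.sum_congr rfl fun u _ => by ring
  rw [← hL, hR]

end Gauss

end H34.FiM4
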