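/-
Parameters of the transvection graphs of unitary groups over the field with four elements.
-/
import Cfsg.Agent.H34.FiM4.Count
import Cfsg.Agent.H5.TT.UnitaryTwo
import Cfsg.Agent.H92.UnitaryThreeTransp
import Cfsg.Agent.H50.Center
import Cfsg.Agent.H65.Fischer.Levels

set_option autoImplicit false
set_option linter.unusedSectionVars false

namespace H34.FiM4

open Matrix Cfsg H50
open H5.TT (U2.IsTr)
open H5.TT
open H65.Fischer (IsSRG)

variable {F : Type*} [Field F]

/-- The sign of an element of the prime field inside the field with four elements. -/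
noncomputable def eps (t : F) : ℤ := open Classical in if t = 0 then 1 else -1

theorem eps_sign (t : F) : eps t = 1 ∨ eps t = -1 := by
  unfold eps; split_ifs <;> simp

theorem eps_zero : eps (0 : F) = 1 := by simp [eps]

theorem eps_ne {t : F} (h : t ≠ 0) : eps t = -1 := by simp [eps, h]

theorem eps_eq_one {t : F} : eps t = 1 ↔ t = 0 := by
  by_cases h : t = 0 <;> simp [eps, h]

variable [Fintype F] {n : ℕ} (hF : Fintype.card F = 2 ^ 2)
include hF

theorem eps_add {a b : F} (ha : a ^ 2 = a) (hb : b ^ 2 = b) : eps (a + b) = eps a * eps b := by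
  rcases U2.fix01 hF ha with rfl | rfl <;> rcases U2.fix01 hF hb with rfl | rfl <;>
    simp [eps, U2.add_self hF]

theorem sum_sq {κ : Type*} (s : Finset κ) (g : κ → F) (h : ∀ i ∈ s, g i ^ 2 = g i) :
    (∑ i ∈ s, g i) ^ 2 = ∑ i ∈ s, g i := by
  rw [H50.sum_pow_q hF]
  exact Finset.sum_congr rfl h

theorem eps_sum {κ : Type*} (s : Finset κ) (g : κ → F) (h : ∀ i ∈ s, g i ^ 2 = g i) :
    eps (∑ i ∈ s, g i) = ∏ i ∈ s, eps (g i) := by
  classical
  induction s using Finset.induction_on with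
  | empty => simp [eps_zero]
  | insert a t ha ih =>
    have h' := fun i hi => h i (Finset.mem_insert_of_mem hi)
    rw [Finset.sum_insert ha, Finset.prod_insert ha, eps_add hF (h a (Finset.mem_insert_self a t))
      (sum_sq hF t g h'), ih h']

theorem trace_fixed (y : F) : (y + y ^ 2) ^ 2 = y + y ^ 2 := by
  have h4 : y ^ 4 = y := by
    have := FiniteField.pow_card y
    rwa [hF] at this
  linear_combination h4 + y ^ 3 * U2.add_self hF (1 : F)

theorem trace_add (y z : F) : y + z + (y + z) ^ 2 = (y + y ^ 2) + (z + z ^ 2) := by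
  linear_combination y * z * U2.add_self hF (1 : F)

theorem exists_omega : ∃ w : F, w + w ^ 2 ≠ 0 := by
  classical
  by_contra h
  push Not at h
  have hsub : (Finset.univ : Finset F) ⊆ {0, 1} := fun x _ => by
    simp only [Finset.mem_insert, Finset.mem_singleton]
    exact U2.fix01 hF (by linear_combination h x - U2.add_self hF x)
  have := (Finset.card_le_card hsub).trans Finset.card_le_two
  rw [Finset.card_univ, hF] at this
  norm_num at this

theorem sum_trace : ∑ y : F, eps (y + y ^ 2) = 0 := by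
  obtain ⟨w, hw⟩ := exists_omega hF
  have h : ∑ y : F, eps (y + y ^ 2) = - ∑ y : F, eps (y + y ^ 2) :=
    calc ∑ y : F, eps (y + y ^ 2) = ∑ y : F, eps (y + w + (y + w) ^ 2) :=
          (Equiv.sum_comp (Equiv.addRight w) fun y : F => eps (y + y ^ 2)).symm
      _ = ∑ y : F, - eps (y + y ^ 2) := by
          refine Finset.sum_congr rfl fun y _ => ?_
          rw [trace_add hF, eps_add hF (trace_fixed hF y) (trace_fixed hF w), eps_ne hw, mul_neg,
            mul_one]
      _ = - ∑ y : F, eps (y + y ^ 2) := Finset.sum_neg_distrib _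
  omega

theorem sq_bijective : Function.Bijective (fun y : F => y ^ 2) := by
  refine Finite.injective_iff_bijective.1 fun x y h => ?_
  have h2 : (x + y) ^ 2 = 0 := by linear_combination h + (x * y + y ^ 2) * U2.add_self hF (1 : F)
  have h3 := pow_eq_zero_iff (n := 2) two_ne_zero |>.1 h2
  linear_combination h3 - U2.add_self hF y

/-- The sign function of the hermitian form. -/
noncomputable def gaussU (n : ℕ) : Gauss (Fin n → F) where
  chi v := eps (hermForm n F 2 v v)
  psi x w := eps (hermForm n F 2 x w + hermForm n F 2 x w ^ 2)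
  chi_sign v := eps_sign _
  psi_sign x w := eps_sign _
  chi_add x w := by
    have hxw : hermForm n F 2 (x + w) (x + w) = hermForm n F 2 x x + hermForm n F 2 w w +
        (hermForm n F 2 x w + hermForm n F 2 x w ^ 2) := by
      rw [h_add_left, h_add_right hF, h_add_right hF, ← h_symm hF x w]
      ring
    rw [hxw, eps_add hF _ (trace_fixed hF _), eps_add hF (h_self_fixed hF x) (h_self_fixed hF w)]
    rw [add_pow_q hF, h_self_fixed hF, h_self_fixed hF]
  psi_add x y w := by rw [h_add_left, trace_add hF, eps_add hF (trace_fixed hF _) (trace_fixed hF _)]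
  psi_add_right x v w := by
    rw [h_add_right hF, trace_add hF, eps_add hF (trace_fixed hF _) (trace_fixed hF _)]
  nondeg w hw := by
    obtain ⟨t, ht⟩ := exists_omega hF
    obtain ⟨x, hx⟩ : ∃ x, hermForm n F 2 x w ≠ 0 := by
      by_contra hno
      push Not at hno
      exact hw (eq_zero_of_h_right hF hno)
    refine ⟨(t * (hermForm n F 2 x w)⁻¹) • x, ?_⟩
    rw [h_smul_left, inv_mul_cancel_right₀ hx, eps_ne ht]
    decide

theorem chi_eq_one_iff (v : Fin n → F) : (gaussU hF n).chi v = 1 ↔ hermForm n F 2 v v = 0 :=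
  eps_eq_one

theorem total_gaussU : (gaussU hF n).total = (-2) ^ n := by
  classical
  show ∑ v : Fin n → F, eps (hermForm n F 2 v v) = _
  have hfix : ∀ c : F, (c * c ^ 2) ^ 2 = c * c ^ 2 := fun c => by
    by_cases hc : c = 0
    · simp [hc]
    · rw [show c * c ^ 2 = c ^ 3 by ring, U2.cube hF hc, one_pow]
  calc ∑ v : Fin n → F, eps (hermForm n F 2 v v)
      = ∑ v : Fin n → F, ∏ i, eps (v i * v i ^ 2) :=
        Finset.sum_congr rfl fun v _ => eps_sum hF _ _ fun i _ => hfix _
    _ = ∏ _i : Fin n, ∑ c : F, eps (c * c ^ 2) :=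
        (Fintype.prod_sum fun (_ : Fin n) (c : F) => eps (c * c ^ 2)).symm
    _ = (-2) ^ n := by
        rw [Finset.prod_const, Finset.card_fin]
        congr 1
        have hm : ∀ c ∈ (Finset.univ : Finset F).erase 0, eps (c * c ^ 2) = -1 := fun c hc =>
          eps_ne (mul_ne_zero (Finset.ne_of_mem_erase hc) (pow_ne_zero 2 (Finset.ne_of_mem_erase hc)))
        rw [← Finset.add_sum_erase _ _ (Finset.mem_univ (0 : F)), Finset.sum_congr rfl hm,
          Finset.sum_const, Finset.card_erase_of_mem (Finset.mem_univ _), Finset.card_univ, hF]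
        simp [eps_zero]

theorem psi_all_iff (x a : Fin n → F) :
    (∀ c : F, (gaussU hF n).psi x (c • a) = 1) ↔ hermForm n F 2 x a = 0 := by
  constructor
  · intro h
    by_contra h0
    obtain ⟨w, hw⟩ := exists_omega hF
    obtain ⟨c, hc⟩ := (sq_bijective hF).2 (w * (hermForm n F 2 x a)⁻¹)
    have h1 : eps (hermForm n F 2 x (c • a) + hermForm n F 2 x (c • a) ^ 2) = 1 := h c
    rw [h_smul_right hF, show c ^ 2 = w * (hermForm n F 2 x a)⁻¹ from hc, inv_mul_cancel_right₀ h0,
      eps_eq_one] at h1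
    exact hw h1
  · intro h c
    show eps (hermForm n F 2 x (c • a) + hermForm n F 2 x (c • a) ^ 2) = 1
    rw [h_smul_right hF, h, eps_eq_one]
    ring

theorem count_iso :
    2 * (Nat.card {x : Fin n → F // hermForm n F 2 x x = 0} : ℤ) = 4 ^ n + (-2) ^ n := by
  classical
  have h := (gaussU hF n).count (0 : Unit →+ (Fin n → F)) (fun _ _ _ => Subsingleton.elim _ _) 1
    (Or.inl rfl)
  rw [Fintype.card_unit, Nat.cast_one, mul_one, total_gaussU] at h
  rw [Nat.card_congr (Equiv.subtypeEquivRight (p := fun x => (gaussU hF n).chi x = 1 ∧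
      ∀ u : Unit, (gaussU hF n).psi x ((0 : Unit →+ (Fin n → F)) u) = 1)
      (q := fun x => hermForm n F 2 x x = 0) fun x => ?_)] at h
  · rw [h, Fintype.card_fun, Fintype.card_fin, hF]
    simp [gaussU, h_zero_left, eps_zero]
  · rw [chi_eq_one_iff]
    exact ⟨fun h => h.1, fun h => ⟨h, fun _ => (gaussU hF n).psi_zero_right x⟩⟩

theorem count_perp {a : Fin n → F} (ha0 : a ≠ 0) (ha : hermForm n F 2 a a = 0) :
    8 * (Nat.card {x : Fin n → F // hermForm n F 2 x x = 0 ∧ hermForm n F 2 x a = 0} : ℤ) =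
      4 ^ n + 4 * (-2) ^ n := by
  classical
  let f : F →+ (Fin n → F) := (LinearMap.toSpanSingleton F (Fin n → F) a).toAddMonoidHom
  have h := (gaussU hF n).count f (fun x y hxy => smul_left_injective _ ha0 hxy) 1 (Or.inl rfl)
  have hs : ∑ c, (gaussU hF n).chi (f c) = 4 := by
    rw [Finset.sum_congr rfl (g := fun _ => (1 : ℤ)) fun c _ => ?_, Finset.sum_const,
      Finset.card_univ, hF]
    · norm_num
    · show eps (hermForm n F 2 (c • a) (c • a)) = 1
      rw [h_smul_left, h_smul_right hF, ha, eps_eq_one]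
      ring
  rw [hs, total_gaussU, Fintype.card_fun, Fintype.card_fin, hF] at h
  rw [Nat.card_congr (Equiv.subtypeEquivRight (p := fun x => (gaussU hF n).chi x = 1 ∧
      ∀ c, (gaussU hF n).psi x (f c) = 1)
      (q := fun x => hermForm n F 2 x x = 0 ∧ hermForm n F 2 x a = 0) fun x => ?_)] at h
  · push_cast at h
    linear_combination h
  · rw [chi_eq_one_iff]
    exact and_congr_right fun _ => psi_all_iff hF x a

theorem count_pair {a b : Fin n → F} (hab : LinearIndependent F ![a, b])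
    (ha : hermForm n F 2 a a = 0) (hb : hermForm n F 2 b b = 0) [Decidable (hermForm n F 2 a b = 0)] :
    32 * (Nat.card {x : Fin n → F // hermForm n F 2 x x = 0 ∧ hermForm n F 2 x a = 0 ∧
        hermForm n F 2 x b = 0} : ℤ) =
      4 ^ n + (if hermForm n F 2 a b = 0 then 16 else 4) * (-2) ^ n := by
  classical
  let f : F × F →+ (Fin n → F) := AddMonoidHom.coprod
    (LinearMap.toSpanSingleton F (Fin n → F) a).toAddMonoidHom
    (LinearMap.toSpanSingleton F (Fin n → F) b).toAddMonoidHom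
  have hf : ∀ u, f u = u.1 • a + u.2 • b := fun u => rfl
  have hinj : Function.Injective f := by
    refine (injective_iff_map_eq_zero f).2 fun ⟨c, d⟩ h => ?_
    obtain ⟨hc, hd⟩ := LinearIndependent.pair_iff.1 hab c d h
    rw [hc, hd]
    rfl
  have h := (gaussU hF n).count f hinj 1 (Or.inl rfl)
  have hchi : ∀ c d : F, (gaussU hF n).chi (f (c, d)) =
      eps (c * d ^ 2 * hermForm n F 2 a b + (c * d ^ 2 * hermForm n F 2 a b) ^ 2) := by
    intro c d
    show eps (hermForm n F 2 (f (c, d)) (f (c, d))) = _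
    congr 1
    rw [hf, h_add_left, h_add_right hF, h_add_right hF]
    simp only [h_smul_left, h_smul_right hF, ha, hb, h_symm hF a b]
    have h4 : d ^ 4 = d := by
      have := FiniteField.pow_card d
      rwa [hF] at this
    linear_combination (- c ^ 2 * hermForm n F 2 a b ^ 2) * h4
  have hs : ∑ u, (gaussU hF n).chi (f u) = if hermForm n F 2 a b = 0 then 16 else 4 := by
    rw [Fintype.sum_prod_type]
    simp only [hchi]
    split_ifs with h0
    · simp [h0, eps_zero, hF]
    · rw [← Finset.add_sum_erase _ _ (Finset.mem_univ (0 : F))]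
      rw [Finset.sum_eq_zero (s := Finset.univ.erase (0 : F)) fun c hc => ?_]
      · simp [eps_zero, hF]
      · have hb' : Function.Bijective fun d : F => c * d ^ 2 * hermForm n F 2 a b := by
          refine Finite.injective_iff_bijective.1 fun x y hxy => (sq_bijective hF).1 ?_
          exact mul_left_cancel₀ (Finset.ne_of_mem_erase hc) (mul_right_cancel₀ h0 hxy)
        rw [hb'.sum_comp fun y : F => eps (y + y ^ 2)]
        exact sum_trace hF
  rw [hs, total_gaussU, Fintype.card_prod, Fintype.card_fun, Fintype.card_fin, hF] at h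
  rw [Nat.card_congr (Equiv.subtypeEquivRight (p := fun x => (gaussU hF n).chi x = 1 ∧
      ∀ u, (gaussU hF n).psi x (f u) = 1)
      (q := fun x => hermForm n F 2 x x = 0 ∧ hermForm n F 2 x a = 0 ∧ hermForm n F 2 x b = 0)
      fun x => ?_)] at h
  · push_cast at h
    linear_combination h
  · rw [chi_eq_one_iff]
    refine and_congr_right fun _ => ⟨fun h => ⟨(psi_all_iff hF x a).1 fun c => ?_,
      (psi_all_iff hF x b).1 fun c => ?_⟩, fun h u => ?_⟩
    · simpa [hf] using h (c, 0)
    · simpa [hf] using h (0, c)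
    · rw [hf, (gaussU hF n).psi_add_right, (psi_all_iff hF x a).2 h.1, (psi_all_iff hF x b).2 h.2,
        one_mul]

/-! ### Points -/

omit hF in
/-- The images of the transvections. -/
def tCls (n : ℕ) (F : Type*) [Field F] : Set (PSU n F 2) :=
  (QuotientGroup.mk : SU n F 2 → PSU n F 2) '' {A | ∃ v, U2.IsTr A v}

theorem utClass_iff (A : SU n F 2) : A ∈ H92.utClass n F ↔ ∃ v, U2.IsTr A v := by
  constructor
  · rintro ⟨v, h0, hv, hA⟩
    exact ⟨v, h0, hv, fun x => by rw [hA, ut_mulVec, one_mul]⟩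
  · rintro ⟨v, h0, hv, hA⟩
    refine ⟨v, h0, hv, Matrix.ext_of_mulVec_single fun i => ?_⟩
    rw [ut_mulVec, one_mul, hA]

theorem tCls_eq : tCls n F = (QuotientGroup.mk : SU n F 2 → PSU n F 2) ''
    {g : ↥(SU n F 2) | (((g : Matrix.SpecialLinearGroup (Fin n) F) : Matrix (Fin n) (Fin n) F) - 1).rank = 1} := by
  refine congrArg _ (Set.ext fun A => ?_)
  exact (utClass_iff hF A).symm.trans (H92.mem_utClass_iff hF A)

variable (hn : 2 ≤ n)
include hn

theorem center_cube {z : SU n F 2} (hz : z ∈ Subgroup.center (SU n F 2)) : z ^ 3 = 1 := by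
  obtain ⟨l, hl3, hl⟩ := scalar_of_mem_center hF hn hz
  refine suMat_ext fun v => ?_
  simp only [pow_succ, pow_zero, one_mul, suMat_mulVec_mul, hl, smul_mulVec, one_mulVec, smul_smul,
    suMat_one]
  rw [show l * (l * l) = l ^ (2 + 1) by ring, hl3, one_smul]

theorem lift_unique {A B : SU n F 2} (hA : A * A = 1) (hB : B * B = 1)
    (h : (QuotientGroup.mk A : PSU n F 2) = QuotientGroup.mk B) : A = B := by
  have hz : A⁻¹ * B ∈ Subgroup.center (SU n F 2) := QuotientGroup.eq.1 h
  rw [inv_eq_of_mul_eq_one_right hA] at hz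
  have h1 : A * B * (A * B) = 1 := by
    calc A * B * (A * B) = A * (B * (A * B)) := by group
      _ = A * ((A * B) * B) := by rw [(Subgroup.mem_center_iff.1 hz B)]
      _ = (A * A) * (B * B) := by group
      _ = 1 := by rw [hA, hB, one_mul]
  have h2 : A * B = 1 := by
    have h3 := center_cube hF hn hz
    rwa [pow_succ, pow_two, h1, one_mul] at h3
  calc A = A * (A * B) := by rw [h2, mul_one]
    _ = B := by rw [← mul_assoc, hA, one_mul]

theorem commute_lift {A B : SU n F 2} (hA : A * A = 1) (hB : B * B = 1)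
    (h : Commute (QuotientGroup.mk A : PSU n F 2) (QuotientGroup.mk B)) : Commute A B := by
  have hC : A * B * A * (A * B * A) = 1 := by
    calc A * B * A * (A * B * A) = A * B * (A * A) * B * A := by group
      _ = A * (B * B) * A := by rw [hA]; group
      _ = 1 := by rw [hB, mul_one, hA]
  have he : A * B * A = B := lift_unique hF hn hC hB (by
    rw [QuotientGroup.mk_mul, QuotientGroup.mk_mul, h.eq, mul_assoc, ← QuotientGroup.mk_mul,
      hA, QuotientGroup.mk_one, mul_one])
  calc A * B = A * B * (A * A) := by rw [hA, mul_one]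
    _ = A * B * A * A := by group
    _ = B * A := by rw [he]

theorem mk_eq_iff {A B : SU n F 2} {v w : Fin n → F} (hA : U2.IsTr A v) (hB : U2.IsTr B w) :
    (QuotientGroup.mk A : PSU n F 2) = QuotientGroup.mk B ↔ ∃ c : F, c ≠ 0 ∧ w = c • v := by
  constructor
  · intro h
    have he := lift_unique hF hn (U2.tr_sq hF hA) (U2.tr_sq hF hB) h
    subst he
    obtain ⟨f, hf⟩ := exists_hyp_partner hF hB.1 hB.2.1
    have h := (hA.2.2 f).symm.trans (hB.2.2 f)
    rw [add_right_inj, (hf.symm hF).2.2, one_smul] at h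
    exact ⟨_, fun h0 => hB.1 (by rw [← h, h0, zero_smul]), h.symm⟩
  · rintro ⟨c, hc, rfl⟩
    rw [U2.tr_unique hF hB (U2.tr_smul hF hA hc)]

theorem mk_commute_iff {A B : SU n F 2} {v w : Fin n → F} (hA : U2.IsTr A v) (hB : U2.IsTr B w) :
    Commute (QuotientGroup.mk A : PSU n F 2) (QuotientGroup.mk B) ↔ hermForm n F 2 v w = 0 :=
  ⟨fun h => (U2.tr_commute_iff hF hA hB).1
      (commute_lift hF hn (U2.tr_sq hF hA) (U2.tr_sq hF hB) h),
    fun h => ((U2.tr_commute_iff hF hA hB).2 h).map (QuotientGroup.mk' _)⟩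

/-- Three vectors for each point. -/
theorem point_count (S : Set (PSU n F 2)) (hS : S ⊆ tCls n F) :
    3 * S.ncard = Nat.card {u : Fin n → F // ∃ A, U2.IsTr A u ∧ QuotientGroup.mk A ∈ S} := by
  classical
  obtain ⟨p, q, r, hp, hq, hr, hpq, hpr, hqr, hall⟩ := Six.exists_three hF
  choose A hAT hAv using fun x : S => hS x.2
  choose v hA using hAT
  let T := {u : Fin n → F // ∃ A, U2.IsTr A u ∧ QuotientGroup.mk A ∈ S}
  let g : S × Fin 3 → T := fun z => ⟨![p, q, r] z.2 • v z.1, A z.1, U2.tr_smul hF (hA z.1) (by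
    rcases z with ⟨z, i⟩; fin_cases i <;> assumption), by rw [hAv]; exact z.1.2⟩
  have hg : Function.Bijective g := by
    constructor
    · rintro ⟨x, i⟩ ⟨y, j⟩ hxy
      have h : ![p, q, r] i • v x = ![p, q, r] j • v y := congrArg Subtype.val hxy
      have hi : ![p, q, r] i ≠ 0 := by fin_cases i <;> assumption
      have hj : ![p, q, r] j ≠ 0 := by fin_cases j <;> assumption
      have hxy' : x = y := by
        refine Subtype.ext ?_
        rw [← hAv x, ← hAv y, mk_eq_iff hF hn (hA x) (hA y)]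
        exact ⟨(![p, q, r] j)⁻¹ * ![p, q, r] i, mul_ne_zero (inv_ne_zero hj) hi, by
          rw [mul_smul, h, smul_smul, inv_mul_cancel₀ hj, one_smul]⟩
      subst hxy'
      have he := smul_left_injective F (hA x).1 h
      refine Prod.ext rfl ?_
      fin_cases i <;> fin_cases j <;> simp_all
    · rintro ⟨u, B, hB, hBS⟩
      obtain ⟨c, hc, rfl⟩ := (mk_eq_iff hF hn (hA ⟨_, hBS⟩) hB).1 (hAv ⟨_, hBS⟩)
      obtain ⟨i, rfl⟩ : ∃ i, ![p, q, r] i = c := by
        rcases hall c hc with rfl | rfl | rfl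
        exacts [⟨0, rfl⟩, ⟨1, rfl⟩, ⟨2, rfl⟩]
      exact ⟨(⟨_, hBS⟩, i), Subtype.ext rfl⟩
  rw [← Nat.card_congr (Equiv.ofBijective g hg), Nat.card_prod, Nat.card_coe_set_eq,
    Nat.card_eq_fintype_card, Fintype.card_fin, mul_comm]

theorem mem_perp {A : SU n F 2} {a w : Fin n → F} (hA : U2.IsTr A a) {B : SU n F 2}
    (hB : U2.IsTr B w) :
    (QuotientGroup.mk B : PSU n F 2) ∈ H99.perp (tCls n F) (QuotientGroup.mk A) ↔
      hermForm n F 2 w a = 0 ∧ w ∉ Set.range (fun c : F => c • a) := by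
  have hiff : w ∈ Set.range (fun c : F => c • a) ↔ ∃ c : F, c ≠ 0 ∧ w = c • a := by
    constructor
    · rintro ⟨c, rfl⟩
      exact ⟨c, fun h => hB.1 (by simp [h]), rfl⟩
    · rintro ⟨c, -, rfl⟩
      exact ⟨c, rfl⟩
  rw [hiff, ← mk_eq_iff hF hn hA hB]
  constructor
  · rintro ⟨-, hne, hc⟩
    exact ⟨(h_eq_zero_comm hF).1 ((mk_commute_iff hF hn hA hB).1 hc), Ne.symm hne⟩
  · rintro ⟨h0, hne⟩
    exact ⟨⟨B, ⟨w, hB⟩, rfl⟩, Ne.symm hne,
      (mk_commute_iff hF hn hA hB).2 ((h_eq_zero_comm hF).1 h0)⟩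

/-- Points in terms of vectors. -/
theorem count_points (S : Set (PSU n F 2)) (hS : S ⊆ tCls n F) (W : Set (Fin n → F))
    (P : (Fin n → F) → Prop) (hW : ∀ w ∈ W, hermForm n F 2 w w = 0 ∧ P w) (h0 : 0 ∈ W)
    (hiff : ∀ (B : SU n F 2) (w : Fin n → F), U2.IsTr B w →
      (QuotientGroup.mk B ∈ S ↔ P w ∧ w ∉ W)) :
    3 * S.ncard + W.ncard = Nat.card {x : Fin n → F // hermForm n F 2 x x = 0 ∧ P x} := by
  rw [point_count hF hn S hS,
    show Nat.card {x : Fin n → F // hermForm n F 2 x x = 0 ∧ P x} =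
      {x : Fin n → F | hermForm n F 2 x x = 0 ∧ P x}.ncard from Nat.card_coe_set_eq _,
    show Nat.card {u : Fin n → F // ∃ A, U2.IsTr A u ∧ QuotientGroup.mk A ∈ S} =
      {u : Fin n → F | ∃ A, U2.IsTr A u ∧ QuotientGroup.mk A ∈ S}.ncard from Nat.card_coe_set_eq _]
  rw [← Set.ncard_union_eq ?_ (Set.toFinite _) (Set.toFinite _)]
  · congr 1
    ext x
    simp only [Set.mem_union, Set.mem_ofPred_eq]
    constructor
    · rintro (⟨A, hA, hAS⟩ | hx)
      · exact ⟨hA.2.1, ((hiff A x hA).1 hAS).1⟩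
      · exact hW x hx
    · intro hx
      by_cases hxW : x ∈ W
      · exact Or.inr hxW
      · obtain ⟨A, hA⟩ := U2.exists_tr hF (fun h => hxW (by rw [h]; exact h0)) hx.1
        exact Or.inl ⟨A, hA, (hiff A x hA).2 ⟨hx.2, hxW⟩⟩
  · rw [Set.disjoint_left]
    rintro x ⟨A, hA, hAS⟩ hx
    exact ((hiff A x hA).1 hAS).2 hx

/-- The transvections form a strongly regular graph. -/
theorem tCls_srg (hn4 : 4 ≤ n) :
    ∃ N K c e : ℕ, IsSRG (tCls n F) N K c e ∧
      2 * (3 * (N : ℤ) + 1) = 4 ^ n + (-2) ^ n ∧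
      8 * (3 * (K : ℤ) + 4) = 4 ^ n + 4 * (-2) ^ n ∧
      32 * (3 * (c : ℤ) + 7) = 4 ^ n + 16 * (-2) ^ n ∧
      32 * (3 * (e : ℤ) + 1) = 4 ^ n + 4 * (-2) ^ n := by
  classical
  have hrange : ∀ {a : Fin n → F}, a ≠ 0 → (Set.range fun c : F => c • a).ncard = 4 := fun h => by
    rw [← Nat.card_coe_set_eq, Nat.card_range_of_injective (smul_left_injective F h),
      Nat.card_eq_fintype_card, hF]
    norm_num
  have hN : ∀ E : Set (PSU n F 2), E = tCls n F →
      2 * (3 * (E.ncard : ℤ) + 1) = 4 ^ n + (-2) ^ n := by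
    rintro E rfl
    have h := count_points hF hn (tCls n F) subset_rfl {0} (fun _ => True)
      (by rintro w rfl; exact ⟨h_zero_left _, trivial⟩) rfl
      (fun B w hB => iff_of_true ⟨B, ⟨w, hB⟩, rfl⟩ ⟨trivial, hB.1⟩)
    rw [Set.ncard_singleton, Nat.card_congr (Equiv.subtypeEquivRight
      (p := fun x : Fin n → F => hermForm n F 2 x x = 0 ∧ True)
      (q := fun x => hermForm n F 2 x x = 0) fun x => Iff.of_eq (and_true _))] at h
    have h' := count_iso (n := n) hF
    rw [← h] at h'
    push_cast at h'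
    linear_combination h'
  have hK : ∀ x ∈ tCls n F, 8 * (3 * ((H99.perp (tCls n F) x).ncard : ℤ) + 4) =
      4 ^ n + 4 * (-2) ^ n := by
    rintro _ ⟨A, ⟨a, hA⟩, rfl⟩
    have h := count_points hF hn (H99.perp (tCls n F) (QuotientGroup.mk A)) (fun y hy => hy.1)
      (Set.range fun c : F => c • a) (fun x => hermForm n F 2 x a = 0)
      (by rintro _ ⟨c, rfl⟩
          simp [h_smul_left, h_smul_right hF, hA.2.1])
      ⟨0, zero_smul _ _⟩ (fun B w hB => mem_perp hF hn hA hB)
    rw [hrange hA.1] at h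
    have h' := count_perp hF hA.1 hA.2.1
    rw [← h] at h'
    push_cast at h'
    linear_combination h'
  have hpair : ∀ (A B : SU n F 2) (a b : Fin n → F), U2.IsTr A a → U2.IsTr B b →
      (QuotientGroup.mk A : PSU n F 2) ≠ QuotientGroup.mk B →
      LinearIndependent F ![a, b] ∧ b ∉ Set.range (fun c : F => c • a) ∧
        a ∉ Set.range (fun c : F => c • b) := by
    intro A B a b hA hB hne
    refine ⟨(LinearIndependent.pair_iff' hA.1).2 fun c hc => hne ?_, ?_, ?_⟩
    · exact (mk_eq_iff hF hn hA hB).2 ⟨c, fun h => hB.1 (by rw [← hc, h, zero_smul]), hc.symm⟩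
    · rintro ⟨c, hc⟩
      exact hne ((mk_eq_iff hF hn hA hB).2 ⟨c, fun h => hB.1 (by rw [← hc, h]; exact zero_smul _ _),
        hc.symm⟩)
    · rintro ⟨c, hc⟩
      exact hne ((mk_eq_iff hF hn hB hA).2 ⟨c, fun h => hA.1 (by rw [← hc, h]; exact zero_smul _ _),
        hc.symm⟩).symm
  have hC : ∀ x ∈ tCls n F, ∀ y ∈ tCls n F, x ≠ y → Commute x y →
      32 * (3 * ((H99.perp (tCls n F) x ∩ H99.perp (tCls n F) y).ncard : ℤ) + 7) =
        4 ^ n + 16 * (-2) ^ n := by
    rintro _ ⟨A, ⟨a, hA⟩, rfl⟩ _ ⟨B, ⟨b, hB⟩, rfl⟩ hne hcomm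
    obtain ⟨hind, hba, hab⟩ := hpair A B a b hA hB hne
    have h0 := (mk_commute_iff hF hn hA hB).1 hcomm
    have h0' := (h_eq_zero_comm hF).1 h0
    have h := count_points hF hn (H99.perp (tCls n F) (QuotientGroup.mk A) ∩
        H99.perp (tCls n F) (QuotientGroup.mk B)) (fun y hy => hy.1.1)
      (Set.range (fun c : F => c • a) ∪ Set.range fun c : F => c • b)
      (fun x => hermForm n F 2 x a = 0 ∧ hermForm n F 2 x b = 0)
      (by rintro _ (⟨c, rfl⟩ | ⟨c, rfl⟩) <;>
            simp [h_smul_left, h_smul_right hF, hA.2.1, hB.2.1, h0, h0'])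
      (Or.inl ⟨0, zero_smul _ _⟩) (fun C w hw => by
        rw [Set.mem_inter_iff, mem_perp hF hn hA hw, mem_perp hF hn hB hw, Set.mem_union]
        tauto)
    have hu : (Set.range (fun c : F => c • a) ∪ Set.range fun c : F => c • b).ncard = 7 := by
      have h1 := Set.ncard_union_add_ncard_inter (Set.range fun c : F => c • a)
        (Set.range fun c : F => c • b)
      have h2 : (Set.range (fun c : F => c • a) ∩ Set.range fun c : F => c • b) = {0} := by
        ext x
        constructor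
        · rintro ⟨⟨c, rfl⟩, d, hd⟩
          by_contra hx
          have hc : c ≠ 0 := fun h => hx (by simp [h])
          exact hab ⟨c⁻¹ * d, by
            show (c⁻¹ * d) • b = a
            rw [mul_smul]
            show c⁻¹ • (d • b) = a
            rw [show d • b = c • a from hd, smul_smul, inv_mul_cancel₀ hc, one_smul]⟩
        · rintro rfl
          exact ⟨⟨0, zero_smul _ _⟩, ⟨0, zero_smul _ _⟩⟩
      rw [h2, hrange hA.1, hrange hB.1, Set.ncard_singleton] at h1
      omega
    rw [hu] at h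
    have h' := count_pair hF hind hA.2.1 hB.2.1
    rw [if_pos h0, ← h] at h'
    push_cast at h'
    linear_combination h'
  have hE : ∀ x ∈ tCls n F, ∀ y ∈ tCls n F, ¬ Commute x y →
      32 * (3 * ((H99.perp (tCls n F) x ∩ H99.perp (tCls n F) y).ncard : ℤ) + 1) =
        4 ^ n + 4 * (-2) ^ n := by
    rintro _ ⟨A, ⟨a, hA⟩, rfl⟩ _ ⟨B, ⟨b, hB⟩, rfl⟩ hcomm
    obtain ⟨hind, hba, hab⟩ := hpair A B a b hA hB fun h => hcomm (h ▸ Commute.refl _)
    have h0 : hermForm n F 2 a b ≠ 0 := fun h => hcomm ((mk_commute_iff hF hn hA hB).2 h)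
    have h := count_points hF hn (H99.perp (tCls n F) (QuotientGroup.mk A) ∩
        H99.perp (tCls n F) (QuotientGroup.mk B)) (fun y hy => hy.1.1)
      {0} (fun x => hermForm n F 2 x a = 0 ∧ hermForm n F 2 x b = 0)
      (by rintro w rfl; simp [h_zero_left])
      rfl (fun C w hw => by
        rw [Set.mem_inter_iff, mem_perp hF hn hA hw, mem_perp hF hn hB hw, Set.mem_singleton_iff]
        constructor
        · exact fun h => ⟨⟨h.1.1, h.2.1⟩, hw.1⟩
        · rintro ⟨⟨h1, h2⟩, -⟩
          refine ⟨⟨h1, ?_⟩, h2, ?_⟩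
          · rintro ⟨c, rfl⟩
            have h2' : c * hermForm n F 2 a b = 0 := by simpa [h_smul_left] using h2
            exact h0 ((mul_eq_zero.1 h2').resolve_left fun h => hw.1 (by simp [h]))
          · rintro ⟨c, rfl⟩
            have h1' : c * hermForm n F 2 b a = 0 := by simpa [h_smul_left] using h1
            exact h0 ((h_eq_zero_comm hF).1
              ((mul_eq_zero.1 h1').resolve_left fun h => hw.1 (by simp [h]))))
    rw [Set.ncard_singleton] at h
    have h' := count_pair hF hind hA.2.1 hB.2.1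
    rw [if_neg h0, ← h] at h'
    push_cast at h'
    linear_combination h'
  obtain ⟨u₀, w₀, huw⟩ := exists_hyp hF hn
  obtain ⟨A, hA⟩ := U2.exists_tr hF (huw.fst_ne_zero hF) huw.1
  obtain ⟨B, hB⟩ := U2.exists_tr hF ((huw.symm hF).fst_ne_zero hF) (huw.symm hF).1
  have hxA : (QuotientGroup.mk A : PSU n F 2) ∈ tCls n F := ⟨A, ⟨u₀, hA⟩, rfl⟩
  have hxB : (QuotientGroup.mk B : PSU n F 2) ∈ tCls n F := ⟨B, ⟨w₀, hB⟩, rfl⟩
  have hAB : ¬ Commute (QuotientGroup.mk A : PSU n F 2) (QuotientGroup.mk B) := fun h =>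
    one_ne_zero (α := F) (huw.2.2.symm.trans ((mk_commute_iff hF hn hA hB).1 h))
  by_cases hex : ∃ x ∈ tCls n F, ∃ y ∈ tCls n F, x ≠ y ∧ Commute x y
  · obtain ⟨x, hx, y, hy, hne, hc⟩ := hex
    refine ⟨_, _, _, _, ⟨rfl, fun z hz => ?_, fun z hz w hw hne' hc' => ?_, fun z hz w hw hc' => ?_⟩,
      hN _ rfl, hK _ hxA, hC _ hx _ hy hne hc, hE _ hxA _ hxB hAB⟩
    · have := hK _ hxA; have := hK _ hz; omega
    · have := hC _ hx _ hy hne hc; have := hC _ hz _ hw hne' hc'; omega
    · have := hE _ hxA _ hxB hAB; have := hE _ hz _ hw hc'; omega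
  · exfalso
    have h := hK _ hxA
    have h0 : (H99.perp (tCls n F) (QuotientGroup.mk A : PSU n F 2)).ncard = 0 := by
      rw [Set.ncard_eq_zero (Set.toFinite _), Set.eq_empty_iff_forall_notMem]
      exact fun y hy => hex ⟨_, hxA, y, hy.1, Ne.symm hy.2.1, hy.2.2⟩
    rw [h0] at h
    have h4 : (4 : ℤ) ^ n = (2 ^ n) ^ 2 := by rw [← pow_mul, mul_comm, pow_mul]; norm_num
    have h16 : (16 : ℤ) ≤ 2 ^ n := le_trans (by norm_num) (pow_le_pow_right₀ (by norm_num) hn4)
    have hneg : -(2 : ℤ) ^ n ≤ (-2) ^ n := by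
      have := neg_abs_le ((-2 : ℤ) ^ n)
      rwa [abs_pow, abs_neg, abs_two] at this
    rw [h4] at h
    push_cast at h
    nlinarith

end H34.FiM4
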