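/-
Parameters of the graphs of reflections of orthogonal groups over the field with two elements.
-/
import Cfsg.Agent.H34.FiM4.Count
import Cfsg.Agent.H92.OrthThreeTransp
import Cfsg.Agent.H65.Fischer.Levels

set_option autoImplicit false
set_option linter.unusedSectionVars false

namespace H34.FiM4

open Cfsg H43
open H65.Fischer (IsSRG)
open H99 (perp)

/-- The sign of an element of the field with two elements. -/
def sgn (a : ZMod 2) : ℤ := if a = 0 then 1 else -1

theorem sgn_sign (a : ZMod 2) : sgn a = 1 ∨ sgn a = -1 := by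
  unfold sgn; split_ifs <;> simp

theorem sgn_add : ∀ a b : ZMod 2, sgn (a + b) = sgn a * sgn b := by decide

theorem sgn_one : sgn 1 = -1 := rfl

theorem sgn_zero : sgn 0 = 1 := rfl

theorem sgn_eq_neg_one : ∀ a : ZMod 2, sgn a = -1 ↔ a = 1 := by decide

theorem sgn_eq_one : ∀ a : ZMod 2, sgn a = 1 ↔ a = 0 := by decide

section orth

variable {V : Type*} [AddCommGroup V] [Module (ZMod 2) V]

/-- The sign function of a non-degenerate quadratic form over the field with two elements. -/
def gaussOf (Q : QuadraticForm (ZMod 2) V) (hQ : (polB Q).Nondegenerate) : Gauss V where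
  chi x := sgn (Q x)
  psi x w := sgn (polB Q x w)
  chi_sign x := sgn_sign _
  psi_sign x w := sgn_sign _
  chi_add x w := by rw [qmap_add, sgn_add, sgn_add]
  psi_add x y w := by rw [map_add, LinearMap.add_apply, sgn_add]
  psi_add_right x v w := by rw [map_add, sgn_add]
  nondeg w hw := by
    obtain ⟨y, hy⟩ := exists_polB_eq hQ hw 1
    exact ⟨y, by rw [polB_comm, hy, sgn_one]; decide⟩

variable [Fintype V] {Q : QuadraticForm (ZMod 2) V} (hQ : (polB Q).Nondegenerate)
include hQ

theorem refl_eq_iff {v w : V} (hv : Q v = 1) (hw : Q w = 1) : refl Q v = refl Q w ↔ v = w := by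
  refine ⟨fun h => ?_, fun h => h ▸ rfl⟩
  have hv0 : v ≠ 0 := by rintro rfl; simp at hv
  obtain ⟨y, hy⟩ := exists_polB_eq hQ hv0 1
  have h2 : (refl Q v).1 y = (refl Q w).1 y := by rw [h]
  rw [H92.refl_two_apply hv, H92.refl_two_apply hw, add_right_inj, polB_comm, hy, one_smul] at h2
  rcases (show ∀ a : ZMod 2, a = 0 ∨ a = 1 by decide) (polB Q y w) with h0 | h0
  · rw [h0, zero_smul] at h2; exact absurd h2 hv0
  · rw [h0, one_smul] at h2; exact h2

theorem refl_commute_iff {v w : V} (hv : Q v = 1) (hw : Q w = 1) :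
    Commute (refl Q v) (refl Q w) ↔ polB Q v w = 0 := by
  constructor
  · intro h
    rcases (show ∀ a : ZMod 2, a = 0 ∨ a = 1 by decide) (polB Q v w) with h0 | h0
    · exact h0
    exfalso
    have h1 := refl_conj (refl Q v) w
    rw [refl_inv, h.eq, mul_assoc, refl_sq, mul_one, H92.refl_two_apply hv, polB_comm, h0,
      one_smul] at h1
    have hwv : Q (w + v) = 1 := by rw [qmap_add, hv, hw, polB_comm, h0]; rfl
    have h2 := (refl_eq_iff hQ hw hwv).1 h1
    rw [left_eq_add] at h2
    subst h2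
    simp at hv
  · intro h0
    apply orth_ext
    intro x
    simp only [orth_mul_apply, H92.refl_two_apply hv, H92.refl_two_apply hw, map_add, map_smul,
      LinearMap.add_apply, LinearMap.smul_apply, smul_eq_mul, polB_comm w v, h0]
    module

/-- Vectors of value one subject to a condition. -/
theorem ncard_refl_image (P : V → Prop) :
    ((refl Q) '' {v | Q v = 1 ∧ P v}).ncard = Nat.card {v // Q v = 1 ∧ P v} := by
  rw [Set.InjOn.ncard_image fun v hv w hw h => (refl_eq_iff hQ hv.1 hw.1).1 h]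
  exact (Nat.card_coe_set_eq _).symm

theorem reflSet_eq : reflSet Q = refl Q '' {v | Q v = 1} := by
  ext g
  constructor
  · rintro ⟨v, hv, rfl⟩
    exact ⟨v, H92.qval_eq_one hv, rfl⟩
  · rintro ⟨v, hv, rfl⟩
    exact ⟨v, by rw [Set.mem_ofPred_eq] at hv; simp [hv], rfl⟩

theorem perp_refl {a : V} (ha : Q a = 1) :
    perp (reflSet Q) (refl Q a) = refl Q '' {v | Q v = 1 ∧ (v ≠ a ∧ polB Q v a = 0)} := by
  ext g
  constructor
  · rintro ⟨hg, hne, hc⟩
    rw [reflSet_eq hQ] at hg
    obtain ⟨v, hv, rfl⟩ := hg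
    exact ⟨v, ⟨hv, fun h => hne (h ▸ rfl), by
      rw [polB_comm]; exact (refl_commute_iff hQ ha hv).1 hc⟩, rfl⟩
  · rintro ⟨v, ⟨hv, hne, h0⟩, rfl⟩
    refine ⟨?_, fun h => hne ((refl_eq_iff hQ hv ha).1 h), ?_⟩
    · rw [reflSet_eq hQ]; exact ⟨v, hv, rfl⟩
    · exact (refl_commute_iff hQ ha hv).2 (by rw [polB_comm]; exact h0)

theorem count_all : 2 * (Nat.card {v : V // Q v = 1} : ℤ) =
    Fintype.card V - (gaussOf Q hQ).total := by
  have h := (gaussOf Q hQ).count (0 : Unit →+ V) (fun _ _ _ => Subsingleton.elim _ _) (-1)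
    (Or.inr rfl)
  rw [Fintype.card_unit, Nat.cast_one, mul_one] at h
  rw [Nat.card_congr (Equiv.subtypeEquivRight (p := fun x => (gaussOf Q hQ).chi x = -1 ∧
      ∀ u : Unit, (gaussOf Q hQ).psi x ((0 : Unit →+ V) u) = 1) (q := fun v => Q v = 1) fun x => ?_)] at h
  · rw [h]
    simp [gaussOf, sgn_zero]
    ring
  · simp [gaussOf, sgn_eq_neg_one, sgn_zero]

theorem count_one {a : V} (ha : Q a = 1) :
    4 * (Nat.card {v : V // Q v = 1 ∧ polB Q v a = 0} : ℤ) = Fintype.card V := by
  have ha0 : a ≠ 0 := by rintro rfl; simp at ha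
  let f : ZMod 2 →+ V := (LinearMap.toSpanSingleton (ZMod 2) V a).toAddMonoidHom
  have h := (gaussOf Q hQ).count f (fun x y hxy => smul_left_injective _ ha0 hxy) (-1) (Or.inr rfl)
  have hs : ∑ u, (gaussOf Q hQ).chi (f u) = 0 := by
    rw [show (Finset.univ : Finset (ZMod 2)) = {0, 1} by decide, Finset.sum_pair (by decide)]
    simp [gaussOf, f, ha, sgn_zero, sgn_one]
  rw [hs, mul_zero, add_zero, ZMod.card] at h
  rw [← h]
  rw [Nat.card_congr (Equiv.subtypeEquivRight (p := fun x => (gaussOf Q hQ).chi x = -1 ∧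
      ∀ u, (gaussOf Q hQ).psi x (f u) = 1) (q := fun v => Q v = 1 ∧ polB Q v a = 0) fun x => ?_)]
  · norm_num
  · simp only [gaussOf, sgn_eq_neg_one, sgn_eq_one, f]
    refine and_congr_right fun _ => ⟨fun h => ?_, fun h u => ?_⟩
    · simpa using h 1
    · simp [h]

theorem count_two {a b : V} (ha : Q a = 1) (hb : Q b = 1) (hab : a ≠ b) :
    8 * (Nat.card {v : V // Q v = 1 ∧ polB Q v a = 0 ∧ polB Q v b = 0} : ℤ) =
      Fintype.card V - (gaussOf Q hQ).total * (if polB Q a b = 0 then 0 else -2) := by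
  have ha0 : a ≠ 0 := by rintro rfl; simp at ha
  have hb0 : b ≠ 0 := by rintro rfl; simp at hb
  let f : ZMod 2 × ZMod 2 →+ V := AddMonoidHom.coprod
    (LinearMap.toSpanSingleton (ZMod 2) V a).toAddMonoidHom
    (LinearMap.toSpanSingleton (ZMod 2) V b).toAddMonoidHom
  have hf : ∀ u, f u = u.1 • a + u.2 • b := fun u => rfl
  have hinj : Function.Injective f := by
    refine (injective_iff_map_eq_zero f).2 fun ⟨c, d⟩ h => ?_
    rw [hf] at h
    have e : ∀ t : ZMod 2, t = 0 ∨ t = 1 := by decide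
    rcases e c with rfl | rfl <;> rcases e d with rfl | rfl <;>
      simp only [zero_smul, one_smul, zero_add, add_zero] at h
    · rfl
    · exact absurd h hb0
    · exact absurd h ha0
    · refine absurd ?_ hab
      rw [eq_neg_of_add_eq_zero_left h, ← neg_one_smul (ZMod 2) b, show (-1 : ZMod 2) = 1 by decide,
        one_smul]
  have h := (gaussOf Q hQ).count f hinj (-1) (Or.inr rfl)
  have hs : ∑ u, (gaussOf Q hQ).chi (f u) = if polB Q a b = 0 then 0 else -2 := by
    rw [Fintype.sum_prod_type]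
    simp only [show (Finset.univ : Finset (ZMod 2)) = {0, 1} by decide,
      Finset.sum_pair (show (0 : ZMod 2) ≠ 1 by decide), hf, gaussOf]
    simp only [zero_smul, one_smul, add_zero, zero_add, map_zero, ha, hb, qmap_add]
    rcases (show ∀ t : ZMod 2, t = 0 ∨ t = 1 by decide) (polB Q a b) with h | h <;> rw [h] <;> decide
  rw [hs, Fintype.card_prod, ZMod.card] at h
  rw [Nat.card_congr (Equiv.subtypeEquivRight (p := fun x => (gaussOf Q hQ).chi x = -1 ∧
      ∀ u, (gaussOf Q hQ).psi x (f u) = 1)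
      (q := fun v => Q v = 1 ∧ polB Q v a = 0 ∧ polB Q v b = 0) fun x => ?_)] at h
  · push_cast at h
    linarith
  · simp only [gaussOf, sgn_eq_neg_one, sgn_eq_one, hf]
    refine and_congr_right fun _ => ⟨fun h => ⟨?_, ?_⟩, fun h u => ?_⟩
    · simpa using h (1, 0)
    · simpa using h (0, 1)
    · simp [h.1, h.2]

/-- The reflections form a strongly regular graph. -/
theorem reflSet_srg {n k c e : ℕ}
    (hn : 2 * (n : ℤ) = Fintype.card V - (gaussOf Q hQ).total)
    (hk : 4 * ((k : ℤ) + 1) = Fintype.card V)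
    (hc : 8 * ((c : ℤ) + 2) = Fintype.card V)
    (he : 8 * (e : ℤ) = Fintype.card V + 2 * (gaussOf Q hQ).total) :
    IsSRG (reflSet Q) n k c e := by
  classical
  refine ⟨?_, ?_, ?_, ?_⟩
  · rw [reflSet_eq hQ, show {v : V | Q v = 1} = {v | Q v = 1 ∧ True} by simp, ncard_refl_image hQ]
    have h := count_all hQ
    rw [Nat.card_congr (Equiv.subtypeEquivRight (p := fun v : V => Q v = 1 ∧ True) (q := fun v => Q v = 1) fun v => Iff.of_eq (and_true _))]
    omega
  · intro x hx
    rw [reflSet_eq hQ] at hx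
    obtain ⟨a, ha, rfl⟩ := hx
    rw [perp_refl hQ ha, ncard_refl_image hQ]
    have h := count_one hQ (a := a) ha
    have hs : {v : V | Q v = 1 ∧ polB Q v a = 0} = insert a {v | Q v = 1 ∧ (v ≠ a ∧ polB Q v a = 0)} := by
      ext v
      by_cases hv : v = a
      · subst hv
        have : polB Q v v = 0 := by rw [polB_self]; exact (show ∀ t : ZMod 2, 2 * t = 0 by decide) _
        simp [this, show Q v = 1 from ha]
      · simp [hv]
    have hcard : Nat.card {v : V // Q v = 1 ∧ polB Q v a = 0} =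
        Nat.card {v : V // Q v = 1 ∧ (v ≠ a ∧ polB Q v a = 0)} + 1 := by
      show Nat.card ↥{v : V | Q v = 1 ∧ polB Q v a = 0} = _
      rw [Nat.card_coe_set_eq, hs, Set.ncard_insert_of_notMem (by simp), ← Nat.card_coe_set_eq]
      rfl
    omega
  · intro x hx y hy hne hcomm
    rw [reflSet_eq hQ] at hx hy
    obtain ⟨a, ha, rfl⟩ := hx
    obtain ⟨b, hb, rfl⟩ := hy
    have hab : a ≠ b := fun h => hne (h ▸ rfl)
    have h0 := (refl_commute_iff hQ ha hb).1 hcomm
    rw [perp_refl hQ ha, perp_refl hQ hb,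
      ← Set.InjOn.image_inter (u := {v | Q v = 1})
        (fun v hv w hw h => (refl_eq_iff hQ hv hw).1 h) (fun v hv => hv.1) (fun v hv => hv.1),
      Set.InjOn.ncard_image (fun v hv w hw h => (refl_eq_iff hQ hv.1.1 hw.1.1).1 h)]
    have h := count_two hQ (a := a) (b := b) ha hb hab
    rw [if_pos h0, mul_zero, sub_zero] at h
    have haa : ∀ v : V, polB Q v v = 0 := fun v => by
      rw [polB_self]; exact (show ∀ t : ZMod 2, 2 * t = 0 by decide) _
    have hs : {v : V | Q v = 1 ∧ polB Q v a = 0 ∧ polB Q v b = 0} =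
        insert a (insert b ({v | Q v = 1 ∧ (v ≠ a ∧ polB Q v a = 0)} ∩
          {v | Q v = 1 ∧ (v ≠ b ∧ polB Q v b = 0)})) := by
      ext v
      by_cases hva : v = a
      · subst hva; simp [haa, h0, show Q v = 1 from ha]
      by_cases hvb : v = b
      · subst hvb; simp [haa, polB_comm v a, h0, show Q v = 1 from hb]
      simp [hva, hvb]; tauto
    have hcard : Nat.card {v : V // Q v = 1 ∧ polB Q v a = 0 ∧ polB Q v b = 0} =
        ({v : V | Q v = 1 ∧ (v ≠ a ∧ polB Q v a = 0)} ∩
          {v | Q v = 1 ∧ (v ≠ b ∧ polB Q v b = 0)}).ncard + 2 := by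
      show Nat.card ↥{v : V | Q v = 1 ∧ polB Q v a = 0 ∧ polB Q v b = 0} = _
      rw [Nat.card_coe_set_eq, hs, Set.ncard_insert_of_notMem (by simp [hab]),
        Set.ncard_insert_of_notMem (by simp)]
    omega
  · intro x hx y hy hncomm
    rw [reflSet_eq hQ] at hx hy
    obtain ⟨a, ha, rfl⟩ := hx
    obtain ⟨b, hb, rfl⟩ := hy
    have hab : a ≠ b := by rintro rfl; exact hncomm (Commute.refl _)
    have h0 : polB Q a b ≠ 0 := fun h => hncomm ((refl_commute_iff hQ ha hb).2 h)
    rw [perp_refl hQ ha, perp_refl hQ hb,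
      ← Set.InjOn.image_inter (u := {v | Q v = 1})
        (fun v hv w hw h => (refl_eq_iff hQ hv hw).1 h) (fun v hv => hv.1) (fun v hv => hv.1),
      Set.InjOn.ncard_image (fun v hv w hw h => (refl_eq_iff hQ hv.1.1 hw.1.1).1 h)]
    have h := count_two hQ (a := a) (b := b) ha hb hab
    rw [if_neg h0] at h
    have hs : {v : V | Q v = 1 ∧ (v ≠ a ∧ polB Q v a = 0)} ∩
        {v | Q v = 1 ∧ (v ≠ b ∧ polB Q v b = 0)} =
        {v : V | Q v = 1 ∧ polB Q v a = 0 ∧ polB Q v b = 0} := by
      ext v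
      simp only [Set.mem_inter_iff, Set.mem_ofPred_eq]
      constructor
      · tauto
      · rintro ⟨h1, h2, h3⟩
        exact ⟨⟨h1, fun e => h0 (e ▸ h3), h2⟩, h1, fun e => h0 (by rw [polB_comm]; exact e ▸ h2), h3⟩
    rw [hs, ← Nat.card_coe_set_eq]
    have hgoal : Nat.card {v : V // Q v = 1 ∧ polB Q v a = 0 ∧ polB Q v b = 0} = e := by omega
    exact hgoal

end orth

end H34.FiM4
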