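/-
The orthogonal cases of Fischer's classification: parameters of the transposition graphs.
-/
import Cfsg.Agent.H34.FiM4.Orth
import Cfsg.Agent.H71.Fischer.Defs

set_option autoImplicit false
set_option linter.unusedSectionVars false

universe u

namespace H34.FiM4

open Cfsg H43
open H65.Fischer (IsSRG)
open scoped MatrixGroups

/-- Transport along an isomorphism. -/
theorem srg_of_image {A : Type*} {B : Type*} [Group A] [Group B] (e : A ≃* B) {E : Set A}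
    {E' : Set B} (h : e '' E = E') {n k c e' : ℕ} (hs : IsSRG E' n k c e') : IsSRG E n k c e' := by
  subst h
  refine H65.Fischer.srg_transfer (E' := e '' E) (fun x _ => e x) (fun x hx => ⟨x, hx, rfl⟩) ?_ ?_ ?_ hs
  · rintro _ ⟨x, hx, rfl⟩
    exact ⟨x, hx, rfl⟩
  · exact fun x _ x' _ he => e.injective he
  · exact fun x _ x' _ => ⟨fun h => by simpa using h.map e.symm, fun h => h.map e⟩

theorem rankOne_srg {ι : Type} [Fintype ι] [DecidableEq ι] (Q : QuadraticForm (ZMod 2) (ι → ZMod 2))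
    (hQ : (polB Q).Nondegenerate) {f : (ι → ZMod 2) → ZMod 2} (hf : ⇑Q = f) {n k c e : ℕ}
    (h : IsSRG (reflSet Q) n k c e) :
    IsSRG {g : ↥(Cfsg.isometryGroup (ZMod 2) f) |
      (((g : GL ι (ZMod 2)) : Matrix ι ι (ZMod 2)) - 1).rank = 1} n k c e := by
  subst hf
  refine srg_of_image (toOrth Q) ?_ h
  ext y
  obtain ⟨g, rfl⟩ := (toOrth Q).surjective y
  rw [(toOrth Q).injective.mem_set_image, Set.mem_ofPred_eq, H92.mem_reflSet_iff hQ, Matrix.rank]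
  have hr : resid (toOrth Q g) =
      LinearMap.range (((g : GL ι (ZMod 2)) : Matrix ι ι (ZMod 2)) - 1).mulVecLin := by
    apply le_antisymm <;> rintro _ ⟨x, rfl⟩
    · exact ⟨-x, by rw [Matrix.mulVecLin_apply, Matrix.sub_mulVec, Matrix.one_mulVec,
        Matrix.mulVec_neg, resMap_apply, toOrth_apply]; abel⟩
    · exact ⟨-x, by rw [Matrix.mulVecLin_apply, Matrix.sub_mulVec, Matrix.one_mulVec,
        resMap_apply, toOrth_apply, Matrix.mulVec_neg]; abel⟩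
  rw [hr]

theorem sgn_sum {κ : Type*} (s : Finset κ) (g : κ → ZMod 2) :
    sgn (∑ i ∈ s, g i) = ∏ i ∈ s, sgn (g i) := by
  classical
  induction s using Finset.induction_on with
  | empty => simp [sgn_zero]
  | insert a t ha ih => rw [Finset.sum_insert ha, Finset.prod_insert ha, sgn_add, ih]

theorem sum_pairs : ∑ p : ZMod 2 × ZMod 2, sgn (p.1 * p.2) = 2 := by decide

theorem total_plus (m : ℕ) :
    (gaussOf (qPlus m (ZMod 2)) (qPlus_nondeg m)).total = 2 ^ m := by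
  let ε : (Fin m → ZMod 2 × ZMod 2) ≃ (Fin m ⊕ Fin m → ZMod 2) :=
    (Equiv.arrowProdEquivProdArrow _ _ _).trans (Equiv.sumArrowEquivProdArrow _ _ _).symm
  show ∑ x, sgn (qPlus m (ZMod 2) x) = _
  rw [← Equiv.sum_comp ε]
  calc ∑ z : Fin m → ZMod 2 × ZMod 2, sgn (qPlus m (ZMod 2) (ε z))
      = ∑ z : Fin m → ZMod 2 × ZMod 2, ∏ i, sgn ((z i).1 * (z i).2) := by
        refine Finset.sum_congr rfl fun z _ => ?_
        rw [coe_qPlus, Cfsg.quadFormPlus, sgn_sum]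
        rfl
    _ = ∏ _i : Fin m, ∑ p : ZMod 2 × ZMod 2, sgn (p.1 * p.2) :=
        (Fintype.prod_sum fun (_ : Fin m) (p : ZMod 2 × ZMod 2) => sgn (p.1 * p.2)).symm
    _ = 2 ^ m := by rw [sum_pairs, Finset.prod_const, Finset.card_fin]

theorem sum_aniso :
    ∑ z : Fin 2 → ZMod 2, sgn (z 0 ^ 2 + 1 * z 0 * z 1 + 1 * z 1 ^ 2) = -2 := by decide

theorem total_minus (m : ℕ) :
    (gaussOf (qMinus m (ZMod 2) 1 1) (qMinus_nondeg m (by decide))).total = -2 ^ (m + 1) := by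
  show ∑ x, sgn (qMinus m (ZMod 2) 1 1 x) = _
  rw [← Equiv.sum_comp (Equiv.sumArrowEquivProdArrow (Fin m ⊕ Fin m) (Fin 2) (ZMod 2)).symm,
    Fintype.sum_prod_type]
  have h : ∀ (x : Fin m ⊕ Fin m → ZMod 2) (z : Fin 2 → ZMod 2),
      sgn (qMinus m (ZMod 2) 1 1 ((Equiv.sumArrowEquivProdArrow _ _ _).symm (x, z))) =
        sgn (qPlus m (ZMod 2) x) * sgn (z 0 ^ 2 + 1 * z 0 * z 1 + 1 * z 1 ^ 2) := by
    intro x z
    rw [coe_qMinus, coe_qPlus, Cfsg.quadFormMinus, Cfsg.quadFormPlus, sgn_add]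
    rfl
  simp only [h, ← Finset.mul_sum, sum_aniso, ← Finset.sum_mul]
  have := total_plus m
  rw [show (gaussOf (qPlus m (ZMod 2)) (qPlus_nondeg m)).total =
    ∑ x, sgn (qPlus m (ZMod 2) x) from rfl] at this
  rw [this]
  ring

variable {X : Type u} [Group X] {E : Set X}

/-- The hyperbolic case. -/
theorem oPlus_srg {m : ℕ} (hm : 4 ≤ m) (hX : H71.Fischer.OPlusCase X E m) :
    ∃ n k c e : ℕ, IsSRG E n k c e ∧
      (n : ℤ) = 8 * (2 ^ (m - 2)) ^ 2 - 2 * 2 ^ (m - 2) ∧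
      (k : ℤ) = 4 * (2 ^ (m - 2)) ^ 2 - 1 ∧
      (c : ℤ) = 2 * (2 ^ (m - 2)) ^ 2 - 2 ∧
      (e : ℤ) = 2 * (2 ^ (m - 2)) ^ 2 + 2 ^ (m - 2) := by
  obtain ⟨φ, hφ⟩ := hX
  obtain ⟨j, rfl⟩ : ∃ j, m = j + 2 := ⟨m - 2, by omega⟩
  rw [Nat.add_sub_cancel]
  obtain ⟨A, hA⟩ : ∃ A : ℕ, A = 2 ^ j := ⟨_, rfl⟩
  have hA1 : 1 ≤ A := hA ▸ Nat.one_le_two_pow
  have hcast : (2 : ℤ) ^ j = A := by rw [hA]; push_cast; rfl
  have hA2 : A ≤ A ^ 2 := Nat.le_self_pow (by norm_num) _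
  have hV : (Fintype.card (Fin (j + 2) ⊕ Fin (j + 2) → ZMod 2) : ℤ) = 16 * (A : ℤ) ^ 2 := by
    rw [← hcast]; simp [pow_add, ← pow_mul]; ring
  refine ⟨8 * A ^ 2 - 2 * A, 4 * A ^ 2 - 1, 2 * A ^ 2 - 2, 2 * A ^ 2 + A, srg_of_image φ hφ
    (rankOne_srg (qPlus (j + 2) (ZMod 2)) (qPlus_nondeg _) (coe_qPlus _ _)
      (reflSet_srg (qPlus_nondeg _) ?_ ?_ ?_ ?_)), ?_⟩
  all_goals (try simp only [hV, total_plus, hcast, pow_add])
  all_goals push_cast [Nat.cast_sub (show 2 * A ≤ 8 * A ^ 2 by omega),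
    Nat.cast_sub (show 1 ≤ 4 * A ^ 2 by omega), Nat.cast_sub (show 2 ≤ 2 * A ^ 2 by omega)]
  all_goals first | (refine ⟨?_, ?_, ?_, ?_⟩ <;> ring) | ring

/-- The elliptic case. -/
theorem oMinus_srg {m : ℕ} (hm : 3 ≤ m) (hX : H71.Fischer.OMinusCase X E m) :
    ∃ n k c e : ℕ, IsSRG E n k c e ∧
      (n : ℤ) = 8 * (2 ^ (m - 1)) ^ 2 + 2 * 2 ^ (m - 1) ∧
      (k : ℤ) = 4 * (2 ^ (m - 1)) ^ 2 - 1 ∧
      (c : ℤ) = 2 * (2 ^ (m - 1)) ^ 2 - 2 ∧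
      (e : ℤ) = 2 * (2 ^ (m - 1)) ^ 2 - 2 ^ (m - 1) := by
  obtain ⟨φ, hφ⟩ := hX
  obtain ⟨j, rfl⟩ : ∃ j, m = j + 1 := ⟨m - 1, by omega⟩
  rw [Nat.add_sub_cancel]
  obtain ⟨B, hB⟩ : ∃ B : ℕ, B = 2 ^ j := ⟨_, rfl⟩
  have hB1 : 1 ≤ B := hB ▸ Nat.one_le_two_pow
  have hcast : (2 : ℤ) ^ j = B := by rw [hB]; push_cast; rfl
  have hB2 : B ≤ B ^ 2 := Nat.le_self_pow (by norm_num) _
  have hV : (Fintype.card ((Fin (j + 1) ⊕ Fin (j + 1)) ⊕ Fin 2 → ZMod 2) : ℤ) = 16 * (B : ℤ) ^ 2 := by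
    rw [← hcast]; simp [pow_add, ← pow_mul]; ring
  refine ⟨8 * B ^ 2 + 2 * B, 4 * B ^ 2 - 1, 2 * B ^ 2 - 2, 2 * B ^ 2 - B, srg_of_image φ hφ
    (rankOne_srg (qMinus (j + 1) (ZMod 2) 1 1) (qMinus_nondeg _ (by decide)) (coe_qMinus _ _ _ _)
      (reflSet_srg (qMinus_nondeg _ (by decide)) ?_ ?_ ?_ ?_)), ?_⟩
  all_goals (try simp only [hV, total_minus, hcast, pow_add])
  all_goals push_cast [Nat.cast_sub (show B ≤ 2 * B ^ 2 by omega),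
    Nat.cast_sub (show 1 ≤ 4 * B ^ 2 by omega), Nat.cast_sub (show 2 ≤ 2 * B ^ 2 by omega)]
  all_goals first | (refine ⟨?_, ?_, ?_, ?_⟩ <;> ring) | ring

end H34.FiM4
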