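/-
The unitary cases of Fischer's classification: parameters of the transposition graphs, and the
elements of order five and eleven in dimension five.
-/
import Cfsg.Agent.H34.FiM4.OrthModels
import Cfsg.Agent.H34.FiM4.Unit
import Cfsg.Agent.H21.NormalClass
import Cfsg.Agent.H50.Center
import Cfsg.Agent.S0278

set_option autoImplicit false
set_option linter.unusedSectionVars false

universe u

namespace H34.FiM4

open Cfsg
open H5.TT
open H65.Fischer (IsSRG)

theorem card_PSU_five {K : Type*} [Field K] [Fintype K] (hK : Fintype.card K = 2 ^ 2) :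
    Nat.card (Cfsg.PSU 5 K 2) = 13685760 := by
  have h := H50.card_PSU_mul (n := 5) hK (by norm_num)
  rw [← H50.card_SU_mul hK (by norm_num), Cfsg.Agent.S0278.result hK 5 (by norm_num)] at h
  norm_num [Finset.prod_range_succ, Nat.even_iff] at h
  omega

variable {X : Type u} [Group X] {E : Set X}

/-- The unitary case, parameters as solutions of equations. -/
theorem psu_srg_raw {n : ℕ} (hn : 4 ≤ n) (hX : H71.Fischer.PSUCase X E n) :
    ∃ N K c e : ℕ, IsSRG E N K c e ∧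
      2 * (3 * (N : ℤ) + 1) = 4 ^ n + (-2) ^ n ∧
      8 * (3 * (K : ℤ) + 4) = 4 ^ n + 4 * (-2) ^ n ∧
      32 * (3 * (c : ℤ) + 7) = 4 ^ n + 16 * (-2) ^ n ∧
      32 * (3 * (e : ℤ) + 1) = 4 ^ n + 4 * (-2) ^ n := by
  obtain ⟨F, _, _, hF, φ, hφ⟩ := hX
  have hF' : Fintype.card F = 2 ^ 2 := by rw [hF]; rfl
  obtain ⟨N, K, c, e, hs, h⟩ := tCls_srg (n := n) hF' (by omega) hn
  rw [tCls_eq hF'] at hs
  exact ⟨N, K, c, e, srg_of_image φ hφ hs, h⟩

/-- The unitary case. -/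
theorem psu_srg {n : ℕ} (hn : n = 5 ∨ 7 ≤ n) (hX : H71.Fischer.PSUCase X E n) :
    ∃ N K c e : ℕ, IsSRG E N K c e ∧
      6 * (N : ℤ) = ((2 : ℤ) ^ n - (-1) ^ n) * (2 ^ n + 2 * (-1) ^ n) ∧
      24 * (K : ℤ) = ((2 : ℤ) ^ n - 4 * (-1) ^ n) * (2 ^ n + 8 * (-1) ^ n) ∧
      4 * (e : ℤ) = K ∧
      (c : ℤ) - e = (-1) ^ n * 2 ^ (n - 3) - 2 := by
  obtain ⟨N, K, c, e, hs, h1, h2, h3, h4⟩ := psu_srg_raw (by omega) hX
  obtain ⟨j, rfl⟩ : ∃ j, n = j + 3 := ⟨n - 3, by omega⟩
  rw [Nat.add_sub_cancel]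
  have hY : (4 : ℤ) ^ (j + 3) = (2 ^ (j + 3)) ^ 2 := by
    rw [← pow_mul, mul_comm, pow_mul]; norm_num
  have he : ((-1 : ℤ) ^ (j + 3)) ^ 2 = 1 := by rw [← pow_mul, mul_comm, pow_mul]; norm_num
  have hm : (-2 : ℤ) ^ (j + 3) = (-1) ^ (j + 3) * 2 ^ (j + 3) := by rw [← mul_pow]; norm_num
  have hp : (2 : ℤ) ^ (j + 3) = 8 * 2 ^ j := by rw [pow_add]; ring
  rw [hY, hm] at h1 h2 h3 h4
  rw [hp] at h1 h2 h3 h4 ⊢
  refine ⟨N, K, c, e, hs, ?_, ?_, ?_, ?_⟩
  · linear_combination h1 + 2 * he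
  · linear_combination h2 + 32 * he
  · omega
  · linarith

/-- In dimension five. -/
theorem psu_five_srg (hX : H71.Fischer.PSUCase X E 5) : IsSRG E 165 36 3 9 := by
  obtain ⟨N, K, c, e, hs, h1, h2, h3, h4⟩ := psu_srg_raw (n := 5) (by norm_num) hX
  norm_num at h1 h2 h3 h4
  obtain rfl : N = 165 := by omega
  obtain rfl : K = 36 := by omega
  obtain rfl : c = 3 := by omega
  obtain rfl : e = 9 := by omega
  exact hs

/-- In dimension five, elements of order five and eleven commute with no transvection. -/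
theorem exists_free_five [Finite X] (hX : H71.Fischer.PSUCase X E 5) {p : ℕ} (hp : p = 5 ∨ p = 11) :
    ∃ g : X, orderOf g = p ∧ ∀ t ∈ E, ¬ Commute g t := by
  have hE := psu_five_srg hX
  obtain ⟨F, _, _, hF, φ, hφ⟩ := hX
  have hF' : Fintype.card F = 2 ^ 2 := by rw [hF]; rfl
  have hcard : Nat.card X = 13685760 := by
    rw [Nat.card_congr φ.toEquiv, card_PSU_five hF']
  have : Fact p.Prime := ⟨by rcases hp with rfl | rfl <;> norm_num⟩
  obtain ⟨g, hg⟩ := exists_prime_orderOf_dvd_card' (G := X) p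
    (by rw [hcard]; rcases hp with rfl | rfl <;> norm_num)
  refine ⟨g, hg, fun t ht hc => ?_⟩
  have hcl : E = {x | IsConj t x} := by
    obtain ⟨-, ⟨A₀, -, hconj⟩, -⟩ := H92.utClass_three_transp hF' (n := 5) (by norm_num)
    have himg : ∀ x, x ∈ E ↔ ∃ A ∈ H92.utClass 5 F, QuotientGroup.mk A = φ x := fun x => by
      rw [← φ.injective.mem_set_image, hφ]
      simp only [Set.mem_image, Set.mem_ofPred_eq, H92.mem_utClass_iff hF']
    obtain ⟨A₁, hA₁, ht'⟩ := (himg t).1 ht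
    rw [hconj, conjugatesOf, Set.mem_ofPred_eq] at hA₁
    ext x
    rw [himg, Set.mem_ofPred_eq, isConj_iff]
    constructor
    · rintro ⟨A, hA, hx⟩
      rw [hconj, conjugatesOf, Set.mem_ofPred_eq] at hA
      obtain ⟨c, rfl⟩ := isConj_iff.1 (hA₁.symm.trans hA)
      refine ⟨φ.symm (QuotientGroup.mk c), φ.injective ?_⟩
      rw [map_mul, map_mul, map_inv, φ.apply_symm_apply, ← ht', ← hx]
      rfl
    · rintro ⟨c, rfl⟩
      obtain ⟨c', hc'⟩ := QuotientGroup.mk_surjective (φ c)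
      refine ⟨c' * A₁ * c'⁻¹, ?_, ?_⟩
      · rw [hconj, conjugatesOf, Set.mem_ofPred_eq]
        exact hA₁.trans (isConj_iff.2 ⟨c', rfl⟩)
      · rw [map_mul, map_mul, map_inv, ← hc', ← ht']
        rfl
  have hidx : (Subgroup.centralizer ({t} : Set X)).index = 165 := by
    rw [H21.index_centralizer_eq_card_conj, ← hE.card, hcl, ← Nat.card_coe_set_eq]
    rfl
  have h1 := (Subgroup.centralizer ({t} : Set X)).card_mul_index
  rw [hidx, hcard] at h1
  have h2 : Nat.card ↥(Subgroup.centralizer ({t} : Set X)) = 82944 := by omega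
  have h3 : p ∣ Nat.card ↥(Subgroup.centralizer ({t} : Set X)) := by
    have hmem : g ∈ Subgroup.centralizer ({t} : Set X) := Subgroup.mem_centralizer_singleton_iff.2 hc.eq
    rw [← hg, ← Subgroup.orderOf_mk _ hmem]
    exact orderOf_dvd_natCard _
  rw [h2] at h3
  rcases hp with rfl | rfl <;> norm_num at h3

end H34.FiM4
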